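import Cfsg.Agent.Lib.Solv.GraphBound.Cover
import Cfsg.Agent.Lib.Solv.FPFFitting
import Cfsg.Agent.Lib.Solv.Kulakoff
import Cfsg.Agent.Lib.Char.MultiplicativeCoprime
import Mathlib.GroupTheory.Transfer
import Mathlib.GroupTheory.NoncommCoprod
import Mathlib.GroupTheory.Frattini

/-!
A normal subgroup of even order whose odd primes are all joined to two makes the orders of the
groups with the same graph unbounded.
-/

set_option autoImplicit false
set_option linter.style.haveILetI false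

namespace Cfsg.Agent.Solv.GraphBound

open scoped commutatorElement

universe u

variable {G : Type u} [Group G] [Finite G]

/-- A prime that is not good has only cyclic subgroups of its power order in the quotient. -/
theorem isCyclic_of_not_good (N : Subgroup G) [N.Normal] {q : ℕ} [Fact q.Prime] (hq2 : q ≠ 2)
    (hq : ¬ Good N q) (R : Subgroup (G ⧸ N)) (hR : IsPGroup q R) : IsCyclic R := by
  classical
  haveI := Fintype.ofFinite G
  simp only [Good, not_forall] at hq
  obtain ⟨p, hp, hpN, hne, hno⟩ := hq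
  haveI := Fact.mk hp
  let P : Sylow p N := default
  let S : Subgroup G := (P : Subgroup N).map N.subtype
  have hSp : IsPGroup p S := P.2.map _
  have hS1 : S ≠ ⊥ := fun h =>
    P.ne_bot_of_dvd_card hpN ((Subgroup.map_eq_bot_iff_of_injective _ N.subtype_injective).1 h)
  let Np : Subgroup G := Subgroup.normalizer (S : Set G)
  have htop : Np ⊔ N = ⊤ := Sylow.normalizer_sup_eq_top P
  let f : ↥Np →* G ⧸ N := (QuotientGroup.mk' N).comp Np.subtype
  have hf : Function.Surjective f := fun y => by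
    obtain ⟨g, rfl⟩ := QuotientGroup.mk_surjective y
    obtain ⟨w, hw, n, hn, rfl⟩ := Subgroup.mem_sup_of_normal_right.1 (htop ▸ Subgroup.mem_top g)
    refine ⟨⟨w, hw⟩, ?_⟩
    show QuotientGroup.mk' N w = QuotientGroup.mk' N (w * n)
    rw [map_mul, show QuotientGroup.mk' N n = 1 from (QuotientGroup.eq_one_iff n).2 hn, mul_one]
  let f' : ↥(R.comap f) →* R := f.subgroupComap R
  have hf' : Function.Surjective f' := f.subgroupComap_surjective_of_surjective R hf
  let R0 : Sylow q ↥(R.comap f) := default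
  by_cases hc : IsCyclic ↥(R0 : Subgroup ↥(R.comap f))
  · refine isCyclic_of_surjective (f'.comp (R0 : Subgroup ↥(R.comap f)).subtype) fun y => ?_
    have htopR : ((R0.mapSurjective hf' : Sylow q R) : Subgroup R) = ⊤ :=
      ((R0.mapSurjective hf').is_maximal' (hR.to_subgroup ⊤) le_top).symm
    rw [Sylow.coe_mapSurjective] at htopR
    obtain ⟨x, hx, rfl⟩ := (htopR ▸ Subgroup.mem_top y : y ∈ (R0 : Subgroup ↥(R.comap f)).map f')
    exact ⟨⟨x, hx⟩, rfl⟩
  exfalso
  obtain ⟨E, -, hE, hEc⟩ := Solv.exists_normal_elementary_sq hq2 R0.2 hc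
  let ι : ↥(R0 : Subgroup ↥(R.comap f)) →* G :=
    (Np.subtype.comp (R.comap f).subtype).comp (R0 : Subgroup ↥(R.comap f)).subtype
  have hι : Function.Injective ι := fun a b h => Subtype.ext (Subtype.ext (Subtype.ext h))
  have hcard : Nat.card (E.map ι) = q ^ 2 := by rw [Subgroup.card_map_of_injective hι, hEc]
  have hqp : q.Coprime p := (Nat.coprime_primes Fact.out hp).2 (Ne.symm hne)
  have hcyc : IsCyclic ↥(E.map ι) := by
    refine Char.MultCoprime.isCyclic_of_fpf (p := p) (D := S) ?_ hSp hS1 ?_ ?_ ?_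
    · refine ⟨⟨fun a b => Subtype.ext ?_⟩⟩
      obtain ⟨a', ha', ha⟩ := a.2
      obtain ⟨b', hb', hb⟩ := b.2
      rw [Subgroup.coe_mul, Subgroup.coe_mul, ← ha, ← hb, ← map_mul, ← map_mul]
      congr 1
      exact congrArg Subtype.val (hE.1.is_comm.comm ⟨a', ha'⟩ ⟨b', hb'⟩)
    · rintro _ ⟨x, -, rfl⟩
      exact x.1.1.2
    · obtain ⟨n, hn⟩ := hSp.exists_card_eq
      rw [hn, hcard]
      exact Nat.Coprime.pow 2 n hqp
    · rintro _ ⟨a, ha, rfl⟩ ha1 d hd hcomm
      by_contra hd1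
      have hao : orderOf (ι a) = q :=
        orderOf_eq_prime (by rw [← map_pow, hE.2 a ha, map_one]) ha1
      obtain ⟨n, hn⟩ := IsPGroup.iff_orderOf.1 hSp ⟨d, hd⟩
      have hn' : orderOf d = p ^ n := by rw [← hn, ← Subgroup.orderOf_coe]
      have hn0 : n ≠ 0 := fun h => hd1 (orderOf_eq_one_iff.1 (by rw [hn', h, pow_zero]))
      have hc : Commute (ι a) d := hcomm
      have ho := hc.orderOf_mul_eq_mul_orderOf_of_coprime (by rw [hao, hn']; exact hqp.pow_right n)
      rw [hao, hn'] at ho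
      exact hno (adj_of_dvd Fact.out hp (Ne.symm hne) (ho ▸ dvd_mul_right q _)
        (ho ▸ Dvd.dvd.mul_left (dvd_pow_self p hn0) q))
  obtain ⟨g, hg⟩ := hcyc.exists_generator
  obtain ⟨a, ha, hag⟩ := g.2
  have hgo : orderOf g = q ^ 2 := (orderOf_eq_card_of_forall_mem_zpowers hg).trans hcard
  have hgq : g ^ q = 1 := Subtype.ext (by
    rw [Subgroup.coe_pow, ← hag, ← map_pow, hE.2 a ha, map_one]; rfl)
  have hle := Nat.le_of_dvd (Fact.out : q.Prime).pos (hgo ▸ orderOf_dvd_of_pow_eq_one hgq)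
  have := (Fact.out : q.Prime).two_le
  nlinarith

/-- No element of order `q` is central in a group generated by elements of order prime to `q`
that has a commutative Sylow `q`-subgroup. -/
theorem false_of_central {X : Type*} [Group X] [Finite X] {q : ℕ} [Fact q.Prime] (P : Sylow q X)
    (hP : ∀ a ∈ (P : Subgroup X), ∀ b ∈ (P : Subgroup X), a * b = b * a) (s : Set X)
    (hs : Subgroup.closure s = ⊤) (hso : ∀ x ∈ s, (orderOf x).Coprime q) {z : X}
    (hz : z ∈ Subgroup.center X) (hzq : orderOf z = q) : False := by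
  letI : CommGroup ↥(P : Subgroup X) :=
    { (inferInstance : Group ↥(P : Subgroup X)) with
      mul_comm := fun a b => Subtype.ext (hP a a.2 b b.2) }
  let τ : X →* ↥(P : Subgroup X) :=
    MonoidHom.transfer (MonoidHom.id ↥(P : Subgroup X))
  have hτ : τ z = 1 := by
    suffices (⊤ : Subgroup X) ≤ τ.ker from this (Subgroup.mem_top z)
    rw [← hs, Subgroup.closure_le]
    intro x hx
    obtain ⟨n, hn⟩ := IsPGroup.iff_orderOf.1 P.2 (τ x)
    exact orderOf_eq_one_iff.1 (Nat.eq_one_of_dvd_coprimes ((hso x hx).pow_right n)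
      (orderOf_map_dvd τ x) (hn ▸ dvd_rfl))
  have hpow := MonoidHom.transfer_eq_pow (MonoidHom.id ↥(P : Subgroup X)) z fun k g _ => by
    rw [mul_assoc, Subgroup.mem_center_iff.1 ((Subgroup.center X).pow_mem hz k) g |>.symm,
      inv_mul_cancel_left]
  have h1 : z ^ (P : Subgroup X).index = 1 := congrArg Subtype.val (hpow.symm.trans hτ)
  exact P.not_dvd_index (hzq.symm.dvd.trans (orderOf_dvd_of_pow_eq_one h1))

/-- An element without fixed points on an elementary abelian `2`-group commutes, in the action,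
with an odd `q`-group that it normalizes. -/
theorem commute_conj {q r : ℕ} [Fact q.Prime] [hr : Fact r.Prime] (hq2 : q ≠ 2) (hr2 : r ≠ 2)
    (hqr : q ≠ r) {U Q : Subgroup G} (hU : Cfsg.IsElementaryAbelian 2 U) (hQ : IsPGroup q Q)
    (hQU : Q ≤ Subgroup.normalizer (U : Set G)) {x : G} (hxU : x ∈ Subgroup.normalizer (U : Set G))
    (hxQ : x ∈ Subgroup.normalizer (Q : Set G)) (hx : x ^ r = 1)
    (hfix : U ⊓ Subgroup.centralizer {x} = ⊥) {a : G} (ha : a ∈ Q) {v : G} (hv : v ∈ U) :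
    a * (x * v * x⁻¹) * a⁻¹ = x * (a * v * a⁻¹) * x⁻¹ := by
  haveI := Fact.mk Nat.prime_two
  set L := Subgroup.normalizer (U : Set G) with hL
  have hUL : U ≤ L := Subgroup.le_normalizer
  haveI : (U.subgroupOf L).Normal := hL ▸ Subgroup.normal_in_normalizer
  have key := Solv.FPFFit.commutator_le_ker (p := r) (q := q) (r := 2) hq2 hqr hq2 (Ne.symm hr2)
    (U.subgroupOf L) (Q.subgroupOf L)
    ⟨⟨⟨fun a b => Subtype.ext (Subtype.ext (show a.1.1 * b.1.1 = b.1.1 * a.1.1 from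
      congrArg Subtype.val (hU.1.is_comm.comm ⟨a.1.1, a.2⟩ ⟨b.1.1, b.2⟩)))⟩⟩,
      fun a ha => Subtype.ext (hU.2 a.1 ha)⟩
    (hQ.comap_of_injective L.subtype L.subtype_injective) ⟨x, hxU⟩ (Subtype.ext hx)
    (Subgroup.mem_normalizer_iff.2 fun y => Subgroup.mem_normalizer_iff.1 hxQ y.1)
    (by
      refine eq_bot_iff.2 fun y hy => Subgroup.mem_bot.2 (Subtype.ext ?_)
      refine Subgroup.mem_bot.1 (hfix ▸ Subgroup.mem_inf.2 ⟨hy.1, ?_⟩)
      exact Subgroup.mem_centralizer_singleton_iff.2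
        (congrArg Subtype.val (Subgroup.mem_centralizer_singleton_iff.1 hy.2)))
  have hv' : x * v * x⁻¹ ∈ U := (Subgroup.mem_normalizer_iff.1 hxU v).1 hv
  have hw : x⁻¹ * (a⁻¹ * (a * (x * v * x⁻¹) * a⁻¹) * a) * x = v := by group
  have hmem : a * (x * v * x⁻¹) * a⁻¹ ∈ U := (Subgroup.mem_normalizer_iff.1 (hQU ha) _).1 hv'
  have hc := Subgroup.mem_centralizer_iff.1
    (key (Subgroup.commutator_mem_commutator (g₁ := (⟨a, hQU ha⟩ : L)) (g₂ := (⟨x, hxU⟩ : L))
      ha (Subgroup.mem_zpowers _))) (⟨x * (a * v * a⁻¹) * x⁻¹, hUL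
        ((Subgroup.mem_normalizer_iff.1 hxU _).1 ((Subgroup.mem_normalizer_iff.1 (hQU ha) v).1 hv))⟩ : L)
    ((Subgroup.mem_normalizer_iff.1 hxU _).1 ((Subgroup.mem_normalizer_iff.1 (hQU ha) v).1 hv))
  have hc' := congrArg Subtype.val hc
  simp only [commutatorElement_def, Subgroup.coe_mul, Subgroup.coe_inv] at hc'
  calc a * (x * v * x⁻¹) * a⁻¹
      = (a * x * a⁻¹ * x⁻¹) * (x * (a * v * a⁻¹) * x⁻¹) * (a * x * a⁻¹ * x⁻¹)⁻¹ := by group
    _ = x * (a * v * a⁻¹) * x⁻¹ := by rw [← hc', mul_inv_cancel_right]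

/-- No normal subgroup of even order has all of its odd primes joined to two. -/
theorem false_of_normal (hG : Bounded G) (N : Subgroup G) [N.Normal] (h2N : 2 ∣ Nat.card N)
    (h2 : ∀ p : ℕ, p.Prime → p ≠ 2 → p ∣ Nat.card N → Adj G 2 p) : False := by
  classical
  haveI := Fact.mk Nat.prime_two
  let P : Sylow 2 N := default
  let S : Subgroup G := (P : Subgroup N).map N.subtype
  have hS1 : S ≠ ⊥ := fun h =>
    P.ne_bot_of_dvd_card h2N ((Subgroup.map_eq_bot_iff_of_injective _ N.subtype_injective).1 h)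
  let U : Subgroup G :=
    { carrier := {z | z ∈ S ∧ z ∈ Subgroup.centralizer (S : Set G) ∧ z ^ 2 = 1}
      one_mem' := ⟨S.one_mem, Subgroup.one_mem _, one_pow 2⟩
      mul_mem' := fun {a b} ha hb => ⟨S.mul_mem ha.1 hb.1, Subgroup.mul_mem _ ha.2.1 hb.2.1, by
        rw [(show Commute a b from (Subgroup.mem_centralizer_iff.1 ha.2.1 b hb.1).symm).mul_pow,
          ha.2.2, hb.2.2, one_mul]⟩
      inv_mem' := fun {a} ha => ⟨S.inv_mem ha.1, Subgroup.inv_mem _ ha.2.1, by
        rw [inv_pow, ha.2.2, inv_one]⟩ }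
  have hUcomm : ∀ a ∈ U, ∀ b ∈ U, a * b = b * a := fun a ha b hb =>
    Subgroup.mem_centralizer_iff.1 hb.2.1 a ha.1
  have hUel : Cfsg.IsElementaryAbelian 2 U :=
    ⟨⟨⟨fun a b => Subtype.ext (hUcomm a a.2 b b.2)⟩⟩, fun a ha => ha.2.2⟩
  have hU1 : ∃ z ∈ U, z ≠ 1 := by
    haveI : Nontrivial S := (Subgroup.nontrivial_iff_ne_bot S).2 hS1
    have hS2 : IsPGroup 2 S := P.2.map _
    haveI := hS2.center_nontrivial
    obtain ⟨n, hn⟩ := (hS2.to_subgroup (Subgroup.center S)).exists_card_eq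
    have hd : 2 ∣ Nat.card (Subgroup.center S) := by
      rw [hn]
      refine dvd_pow_self 2 fun h => ?_
      rw [h, pow_zero] at hn
      exact (Finite.one_lt_card (α := Subgroup.center S)).ne' hn
    obtain ⟨z, hz⟩ := exists_prime_orderOf_dvd_card' 2 hd
    refine ⟨((z : S) : G), ⟨z.1.2, Subgroup.mem_centralizer_iff.2 fun s hs => ?_, ?_⟩, fun h => ?_⟩
    · exact congrArg Subtype.val (Subgroup.mem_center_iff.1 z.2 ⟨s, hs⟩)
    · exact congrArg (fun w : Subgroup.center S => ((w : S) : G)) (hz ▸ pow_orderOf_eq_one z)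
    · have : z = 1 := Subtype.ext (Subtype.ext h)
      rw [this, orderOf_one] at hz
      omega
  have hSU : Subgroup.normalizer (S : Set G) ≤ Subgroup.normalizer (U : Set G) := fun g hg => by
    refine Subgroup.mem_normalizer_fintype fun z hz => ?_
    refine ⟨(Subgroup.mem_normalizer_iff.1 hg z).1 hz.1,
      Subgroup.mem_centralizer_iff.2 fun s hs => ?_, ?_⟩
    · have hs' : g⁻¹ * s * g ∈ S :=
        (Subgroup.mem_normalizer_iff.1 hg (g⁻¹ * s * g)).2
          (by rwa [show g * (g⁻¹ * s * g) * g⁻¹ = s by group])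
      have h := Subgroup.mem_centralizer_iff.1 hz.2.1 _ hs'
      calc s * (g * z * g⁻¹) = g * ((g⁻¹ * s * g) * z) * g⁻¹ := by group
        _ = g * (z * (g⁻¹ * s * g)) * g⁻¹ := by rw [h]
        _ = g * z * g⁻¹ * s := by group
    · rw [conj_pow, hz.2.2, mul_one, mul_inv_cancel]
  obtain ⟨W, -, hW⟩ := Finite.exists_le_minimal
    (p := fun W : Subgroup G => W ≤ Subgroup.normalizer (S : Set G) ∧ W ⊔ N = ⊤)
    (a := Subgroup.normalizer (S : Set G)) ⟨le_rfl, Sylow.normalizer_sup_eq_top P⟩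
  have hWU : W ≤ Subgroup.normalizer (U : Set G) := hW.1.1.trans hSU
  -- the part inside `N` is nilpotent
  have hDfr : N.subgroupOf W ≤ frattini ↥W := le_iInf₂ fun M hM => by
    by_contra hle
    have hM1 : M ⊔ N.subgroupOf W = ⊤ := hM.2 _ (left_lt_sup.2 hle)
    have h1 : M.map W.subtype ⊔ (N.subgroupOf W).map W.subtype = W := by
      rw [← Subgroup.map_sup, hM1, ← MonoidHom.range_eq_map, Subgroup.range_subtype]
    have h2' : W ≤ M.map W.subtype ⊔ N := h1.symm.le.trans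
      (sup_le_sup_left (by rw [Subgroup.subgroupOf_map_subtype]; exact inf_le_left) _)
    have h3 : M.map W.subtype ⊔ N = ⊤ :=
      top_le_iff.1 (hW.1.2.symm.le.trans (sup_le h2' le_sup_right))
    have h4 := hW.2 ⟨(Subgroup.map_subtype_le M).trans hW.1.1, h3⟩ (Subgroup.map_subtype_le M)
    refine hM.1 (top_le_iff.1 fun w _ => ?_)
    obtain ⟨m, hm, he⟩ := h4 w.2
    rwa [← W.subtype_injective he]
  haveI hDnil : Group.IsNilpotent ↥(N.subgroupOf W) := by
    haveI := frattini_nilpotent (G := ↥W)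
    exact Group.nilpotent_of_mulEquiv
      (Subgroup.subgroupOfEquivOfLe hDfr : (N.subgroupOf W).subgroupOf (frattini ↥W) ≃* _)
  have hDq : ∀ q : (Nat.card G).primeFactors, ∃ Q : Subgroup ↥W, Q.Normal ∧
      IsPGroup (q : ℕ) Q ∧ Q ≤ N.subgroupOf W ∧
      ∀ d : ↥W, (d : G) ∈ N → (∃ a : ℕ, orderOf d = (q : ℕ) ^ a) → d ∈ Q := fun q => by
    haveI := Fact.mk (Nat.prime_of_mem_primeFactors q.2)
    let R : Sylow (q : ℕ) ↥(N.subgroupOf W) := default
    haveI : (R : Subgroup ↥(N.subgroupOf W)).Characteristic :=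
      R.characteristic_of_normal inferInstance
    refine ⟨(R : Subgroup ↥(N.subgroupOf W)).map (N.subgroupOf W).subtype, inferInstance,
      R.2.map _, Subgroup.map_subtype_le _, fun d hd hda => ?_⟩
    obtain ⟨a, ha⟩ := hda
    have hp : IsPGroup (q : ℕ) (Subgroup.zpowers (⟨d, hd⟩ : ↥(N.subgroupOf W))) :=
      IsPGroup.of_card (n := a) (by rw [Nat.card_zpowers, ← Subgroup.orderOf_coe, ha])
    obtain ⟨R', hR'⟩ := hp.exists_le_sylow
    haveI := R.unique_of_normal inferInstance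
    exact ⟨⟨d, hd⟩, Subsingleton.elim R' R ▸ hR' (Subgroup.mem_zpowers _), rfl⟩
  choose Dq hDqn hDqp hDqN hDqm using hDq
  let B : Finset (Nat.card G).primeFactors := Finset.univ.filter fun q => ¬ Good N (q : ℕ)
  have hBq : ∀ i ∈ B, (i : ℕ).Prime ∧ (i : ℕ) ≠ 2 ∧ ¬ Good N (i : ℕ) := fun i hi => by
    refine ⟨Nat.prime_of_mem_primeFactors i.2, fun h => ?_, (Finset.mem_filter.1 hi).2⟩
    refine (Finset.mem_filter.1 hi).2 ?_
    rw [h]
    exact fun r hr hrN hr2 => h2 r hr hr2 hrN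
  have hsup : ∀ s : Finset (Nat.card G).primeFactors, (s.sup Dq).Normal ∧
      ∀ q : ℕ, q.Prime → q ∣ Nat.card ↥(s.sup Dq) → ∃ i ∈ s, q = (i : ℕ) := fun s => by
    induction s using Finset.induction with
    | empty =>
      rw [Finset.sup_empty]
      exact ⟨inferInstance, fun q hq h => absurd h (by rw [Subgroup.card_bot]; exact hq.not_dvd_one)⟩
    | insert i s _ ih =>
      rw [Finset.sup_insert]
      haveI := hDqn i
      haveI := ih.1
      refine ⟨inferInstance, fun q hq h => ?_⟩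
      rcases hq.dvd_mul.1 (h.trans (Solv.card_sup_dvd (Dq i) (s.sup Dq))) with h' | h'
      · haveI := Fact.mk (Nat.prime_of_mem_primeFactors i.2)
        obtain ⟨n, hn⟩ := (hDqp i).exists_card_eq
        exact ⟨i, Finset.mem_insert_self i s, (Nat.prime_dvd_prime_iff_eq hq
          (Nat.prime_of_mem_primeFactors i.2)).1 (hq.dvd_of_dvd_pow (hn ▸ h'))⟩
      · obtain ⟨j, hj, hqj⟩ := ih.2 q hq h'
        exact ⟨j, Finset.mem_insert_of_mem hj, hqj⟩
  let Db : Subgroup ↥W := B.sup Dq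
  haveI : Db.Normal := (hsup B).1
  have hDbN : Db ≤ N.subgroupOf W := Finset.sup_le fun i _ => hDqN i
  have hB : ∀ q : ℕ, q.Prime → ¬ Good N q → ∀ d : ↥W, (d : G) ∈ N →
      (∃ a : ℕ, orderOf d = q ^ a) → d ∈ Db := fun q hq hg d hd hda => by
    by_cases hqG : q ∣ Nat.card G
    · let i : (Nat.card G).primeFactors :=
        ⟨q, Nat.mem_primeFactors.2 ⟨hq, hqG, Nat.card_pos.ne'⟩⟩
      exact Finset.le_sup (f := Dq) (show i ∈ B from Finset.mem_filter.2 ⟨Finset.mem_univ _, hg⟩)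
        (hDqm i d hd hda)
    · obtain ⟨a, ha⟩ := hda
      have h1 : orderOf d = 1 := by
        refine Nat.eq_one_of_dvd_coprimes ((hq.coprime_iff_not_dvd.2 hqG).pow_left a) (ha ▸ dvd_rfl) ?_
        rw [← Subgroup.orderOf_coe]
        exact orderOf_dvd_natCard _
      rw [orderOf_eq_one_iff.1 h1]
      exact one_mem _
  -- the action on the involutions
  let ρ : ↥W →* MulAut ↥U := U.normalizerMonoidHom.comp (Subgroup.inclusion hWU)
  have hρ : ∀ (w : ↥W) (v : ↥U), ((ρ w v : ↥U) : G) = (w : G) * v * (w : G)⁻¹ := fun w v => rfl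
  have hfix : ∀ x : ↥W, Bad G (orderOf x) → ∀ v : ↥U, ρ x v = v → v = 1 := by
    intro x hx v hv
    by_contra hv1
    refine hx.2.2.2 ?_
    have hv2 : orderOf (v : G) = 2 := orderOf_eq_prime v.2.2.2 fun h => hv1 (Subtype.ext h)
    refine adj_of_commute Nat.prime_two hx.1 (Ne.symm hx.2.1) hv2 (Subgroup.orderOf_coe x) ?_
    have h := congrArg Subtype.val hv
    rw [hρ, mul_inv_eq_iff_eq_mul] at h
    exact h.symm
  have hbadN : ∀ x : ↥W, Bad G (orderOf x) → ¬ orderOf x ∣ Nat.card N := fun x hx h =>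
    hx.2.2.2 (h2 _ hx.1 hx.2.1 h)
  have hcomm : ∀ x : ↥W, Bad G (orderOf x) → ∀ d ∈ Db, Commute (ρ d) (ρ x) := by
    intro x hx
    have hle : Db ≤ (Subgroup.centralizer {ρ x}).comap ρ := Finset.sup_le fun i hi d hd => by
      rw [Subgroup.mem_comap, Subgroup.mem_centralizer_singleton_iff]
      obtain ⟨hiprime, hi2, -⟩ := hBq i hi
      haveI := Fact.mk hiprime
      haveI := Fact.mk hx.1
      by_cases hd1 : d = 1
      · rw [hd1, map_one, one_mul, mul_one]
      have hir : (i : ℕ) ≠ orderOf x := fun hir => by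
        obtain ⟨n, hn⟩ := IsPGroup.iff_orderOf.1 (hDqp i) ⟨d, hd⟩
        rw [Subgroup.orderOf_mk] at hn
        refine hbadN x hx (hir ▸ ?_)
        have hn0 : n ≠ 0 := fun h => hd1 (orderOf_eq_one_iff.1 (by rw [hn, h, pow_zero]))
        refine dvd_trans ?_ (Subgroup.orderOf_dvd_natCard N (hDqN i hd))
        show (i : ℕ) ∣ orderOf (d : G)
        rw [Subgroup.orderOf_coe, hn]
        exact dvd_pow_self _ hn0
      refine MulEquiv.ext fun v => Subtype.ext ?_
      show ((ρ d (ρ x v) : ↥U) : G) = ((ρ x (ρ d v) : ↥U) : G)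
      rw [hρ, hρ, hρ, hρ]
      refine commute_conj hi2 hx.2.1 hir hUel ((hDqp i).map W.subtype) ?_ (hWU x.2) ?_ ?_ ?_
        ⟨d, hd, rfl⟩ v.2
      · exact (Subgroup.map_subtype_le _).trans hWU
      · refine Subgroup.mem_normalizer_fintype ?_
        rintro _ ⟨y, hy, rfl⟩
        exact ⟨x * y * x⁻¹, (hDqn i).conj_mem y hy x, rfl⟩
      · exact congrArg Subtype.val (pow_orderOf_eq_one x)
      · refine eq_bot_iff.2 fun y hy => Subgroup.mem_bot.2 ?_
        have h := hfix x hx ⟨y, hy.1⟩ (Subtype.ext (by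
          rw [hρ]
          rw [← Subgroup.mem_centralizer_singleton_iff.1 hy.2]
          exact mul_inv_cancel_right _ _))
        exact congrArg Subtype.val h
    intro d hd
    exact Subgroup.mem_centralizer_singleton_iff.1 (hle hd)
  let Kb : Subgroup ↥W := Subgroup.closure {x | Bad G (orderOf x)}
  have hKD : ∀ a ∈ Kb, ∀ d ∈ Db, Commute (ρ a) (ρ d) := by
    intro a ha d hd
    have hle : Kb ≤ (Subgroup.centralizer {ρ d}).comap ρ := (Subgroup.closure_le _).2 fun x hx => by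
      rw [SetLike.mem_coe, Subgroup.mem_comap, Subgroup.mem_centralizer_singleton_iff]
      exact (hcomm x hx d hd).symm
    exact Subgroup.mem_centralizer_singleton_iff.1 (hle ha)
  have hinf : Kb.map ρ ⊓ Db.map ρ = ⊥ := by
    by_contra hne
    obtain ⟨q, hq, hqd⟩ := Nat.exists_prime_and_dvd
      (n := Nat.card ↥(Kb.map ρ ⊓ Db.map ρ : Subgroup (MulAut ↥U)))
      fun h => hne (Subgroup.card_eq_one.1 h)
    haveI := Fact.mk hq
    obtain ⟨i, hi, hqi⟩ := (hsup B).2 q hq (hqd.trans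
      ((Subgroup.card_dvd_of_le inf_le_right).trans (Subgroup.card_map_dvd _ _)))
    obtain ⟨hiprime, hi2, hig⟩ := hBq i hi
    rw [← hqi] at hi2 hig
    obtain ⟨z, hz⟩ := exists_prime_orderOf_dvd_card' q hqd
    let f : ↥Kb →* ↥(Kb.map ρ) := ρ.subgroupMap Kb
    have hf : Function.Surjective f := ρ.subgroupMap_surjective Kb
    let P0 : Sylow q ↥Kb := default
    refine false_of_central (P0.mapSurjective hf) ?_ (f '' (Subtype.val ⁻¹' {x | Bad G (orderOf x)}))
      ?_ ?_ (z := ⟨z.1, (Subgroup.mem_inf.1 z.2).1⟩) ?_ ?_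
    · -- the Sylow subgroup of the image is commutative
      let φK : ↥Kb →* G ⧸ N := ((QuotientGroup.mk' N).comp W.subtype).comp Kb.subtype
      haveI hcyc := isCyclic_of_not_good N hi2 hig ((P0 : Subgroup ↥Kb).map φK) (P0.2.map φK)
      obtain ⟨⟨c, hc⟩, hgen⟩ := hcyc.exists_generator
      obtain ⟨c0, hc0, rfl⟩ := hc
      have hsplit : ∀ a ∈ (P0 : Subgroup ↥Kb), ∃ (e : ↥Kb) (n : ℤ),
          (e : ↥W) ∈ Db ∧ a = e * c0 ^ n := by
        intro a ha
        obtain ⟨n, hn⟩ := hgen ⟨φK a, a, ha, rfl⟩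
        have hn' : φK c0 ^ n = φK a := congrArg Subtype.val hn
        refine ⟨a * (c0 ^ n)⁻¹, n, ?_, (inv_mul_cancel_right a _).symm⟩
        have he : a * (c0 ^ n)⁻¹ ∈ (P0 : Subgroup ↥Kb) :=
          mul_mem ha (inv_mem (zpow_mem hc0 n))
        refine hB q hq hig _ ?_ ?_
        · refine (QuotientGroup.eq_one_iff _).1 ?_
          show φK (a * (c0 ^ n)⁻¹) = 1
          rw [map_mul, map_inv, map_zpow, hn', mul_inv_cancel]
        · obtain ⟨m, hm⟩ := IsPGroup.iff_orderOf.1 P0.2 ⟨_, he⟩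
          exact ⟨m, by rw [Subgroup.orderOf_coe, ← hm]; exact (Subgroup.orderOf_mk _ _).symm⟩
      intro a ha b hb
      rw [Sylow.coe_mapSurjective] at ha hb
      obtain ⟨a0, ha0, rfl⟩ := ha
      obtain ⟨b0, hb0, rfl⟩ := hb
      obtain ⟨e, n, he, rfl⟩ := hsplit a0 ha0
      obtain ⟨e', n', he', rfl⟩ := hsplit b0 hb0
      refine Subtype.ext ?_
      show ρ ((e * c0 ^ n : ↥Kb) : ↥W) * ρ ((e' * c0 ^ n' : ↥Kb) : ↥W) =
        ρ ((e' * c0 ^ n' : ↥Kb) : ↥W) * ρ ((e * c0 ^ n : ↥Kb) : ↥W)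
      simp only [Subgroup.coe_mul, map_mul, Subgroup.coe_zpow, map_zpow]
      have h1 : Commute (ρ (e : ↥W)) (ρ (e' : ↥W)) := hKD _ e.2 _ he'
      have h3 : Commute (ρ (e : ↥W)) (ρ (c0 : ↥W) ^ n') := ((hKD _ c0.2 _ he).symm).zpow_right n'
      have h4 : Commute (ρ (c0 : ↥W) ^ n) (ρ (e' : ↥W)) := (hKD _ c0.2 _ he').zpow_left n
      have h5 : Commute (ρ (c0 : ↥W) ^ n) (ρ (c0 : ↥W) ^ n') := (Commute.refl _).zpow_zpow n n'
      exact ((h1.mul_right h3).mul_left (h4.mul_right h5)).eq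
    · rw [← MonoidHom.map_closure, Subgroup.closure_closure_coe_preimage,
        Subgroup.map_top_of_surjective f hf]
    · rintro _ ⟨x, hx, rfl⟩
      have hxq : q ≠ orderOf (x : ↥W) := fun h => by
        refine hbadN _ hx (h ▸ ?_)
        refine (hqd.trans ((Subgroup.card_dvd_of_le inf_le_right).trans
          ((Subgroup.card_map_dvd _ _).trans (Subgroup.card_dvd_of_le hDbN)))).trans ?_
        rw [← Subgroup.card_map_of_injective W.subtype_injective, Subgroup.subgroupOf_map_subtype]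
        exact Subgroup.card_dvd_of_le inf_le_left
      refine Nat.Coprime.coprime_dvd_left (orderOf_map_dvd f x) ?_
      rw [← Subgroup.orderOf_coe]
      exact (Nat.coprime_primes hx.1 hq).2 (Ne.symm hxq)
    · refine Subgroup.mem_center_iff.2 ?_
      rintro ⟨_, a, ha, rfl⟩
      obtain ⟨d, hd, hde⟩ := (Subgroup.mem_inf.1 z.2).2
      refine Subtype.ext ?_
      show ρ a * (z : MulAut ↥U) = (z : MulAut ↥U) * ρ a
      rw [← hde]
      exact (hKD a ha d hd).eq
    · rw [← Subgroup.orderOf_coe, Subgroup.orderOf_coe z, hz]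
  -- separate the two commuting images
  have hpair : ∀ (a : ↥(Kb.map ρ)) (b : ↥(Db.map ρ)),
      Commute ((Kb.map ρ).subtype a) ((Db.map ρ).subtype b) := by
    rintro ⟨_, a, ha, rfl⟩ ⟨_, b, hb, rfl⟩
    exact hKD a ha b hb
  let e := MonoidHom.noncommCoprod (Kb.map ρ).subtype (Db.map ρ).subtype hpair
  have he : Function.Injective e := by
    rw [MonoidHom.noncommCoprod_injective]
    refine ⟨Subgroup.subtype_injective _, Subgroup.subtype_injective _, ?_⟩
    rw [Subgroup.range_subtype, Subgroup.range_subtype, disjoint_iff]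
    exact hinf
  have hrange : ∀ w : ↥(Kb ⊔ Db), ρ (w : ↥W) ∈ e.range := fun w => by
    rw [MonoidHom.noncommCoprod_range, Subgroup.range_subtype, Subgroup.range_subtype,
      ← Subgroup.map_sup]
    exact ⟨_, w.2, rfl⟩
  let ρ1 : ↥(Kb ⊔ Db) →* e.range := (ρ.comp (Kb ⊔ Db).subtype).codRestrict e.range hrange
  let σ : ↥(Kb ⊔ Db) →* MulAut ↥U :=
    (Kb.map ρ).subtype.comp ((MonoidHom.fst _ _).comp
      ((MonoidHom.ofInjective he).symm.toMonoidHom.comp ρ1))
  have hσ : ∀ (w : ↥(Kb ⊔ Db)) (a : ↥(Kb.map ρ)) (b : ↥(Db.map ρ)),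
      (a : MulAut ↥U) * b = ρ (w : ↥W) → σ w = a := fun w a b hab => by
    have h1 : (MonoidHom.ofInjective he).symm (ρ1 w) = (a, b) := by
      rw [MulEquiv.symm_apply_eq]
      exact Subtype.ext hab.symm
    show (((MonoidHom.ofInjective he).symm (ρ1 w)).1 : MulAut ↥U) = a
    rw [h1]
  letI : CommGroup ↥U :=
    { (inferInstance : Group ↥U) with
      mul_comm := fun a b => Subtype.ext (hUcomm a a.2 b b.2) }
  haveI : Nontrivial ↥U := by
    obtain ⟨z, hz, hz1⟩ := hU1
    exact ⟨⟨⟨z, hz⟩, 1, fun h => hz1 (congrArg Subtype.val h)⟩⟩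
  refine false_of_cover hG N h2N h2 W hW.1.2 (Kb ⊔ Db) Db le_sup_right hDbN
    (fun x hx => Subgroup.mem_sup_left (Subgroup.subset_closure hx)) ↥U
    (fun v => Subtype.ext v.2.2.2) σ (fun d hd => ?_) (fun x hx v hv => ?_) hB
  · exact hσ d 1 ⟨ρ (d : ↥W), _, hd, rfl⟩ (one_mul _)
  · rw [hσ x ⟨ρ (x : ↥W), _, Subgroup.subset_closure hx, rfl⟩ 1 (mul_one _)] at hv
    exact hfix _ hx v hv

end Cfsg.Agent.Solv.GraphBound
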