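import Cfsg.Agent.Lib.Solv.GraphBound.Clique
import Cfsg.Agent.Lib.Solv.GraphBound.Fpf

/-!
A group whose prime graph is shared by boundedly many groups is almost simple.
-/

set_option autoImplicit false
set_option linter.style.haveILetI false

namespace Cfsg.Agent.Solv.GraphBound

universe u v

variable {G : Type u} [Group G] [Finite G]

theorem nontrivial_of_sameGraph [Nontrivial G] {H : Type v} [Group H] [Finite H]
    (h : SameGraph G H) : Nontrivial H := by
  obtain ⟨p, hp, hpG⟩ := Nat.exists_prime_and_dvd (n := Nat.card G)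
    (Finite.one_lt_card (α := G)).ne'
  refine Finite.one_lt_card_iff_nontrivial.1 ?_
  exact lt_of_lt_of_le hp.one_lt (Nat.le_of_dvd Nat.card_pos ((h.1 p hp).1 hpG))

omit [Finite G] in
theorem bounded_of_sameGraph {H : Type v} [Group H] (hG : Bounded G) (h : SameGraph G H) :
    Bounded H := by
  obtain ⟨n, hn⟩ := hG
  exact ⟨n, fun K _ _ hK => hn K (h.trans hK)⟩

/-- A group whose prime graph is shared by boundedly many groups is almost simple. -/
theorem almost_simple [Nontrivial G] (hG : Bounded G) :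
    ∃ N : Subgroup G, N.Normal ∧ IsSimpleGroup ↥N ∧ ¬ IsMulCommutative ↥N ∧
      Subgroup.centralizer (N : Set G) = ⊥ := by
  obtain ⟨M, -, hM⟩ := Finite.exists_le_minimal (p := fun K : Subgroup G => K.Normal ∧ K ≠ ⊥)
    (a := ⊤) ⟨inferInstance, top_ne_bot⟩
  haveI := hM.1.1
  have hmin : ∀ K : Subgroup G, K.Normal → K ≤ M → K = ⊥ ∨ K = M := fun K hK hKM => by
    by_cases h : K = ⊥
    · exact Or.inl h
    · exact Or.inr (le_antisymm hKM (hM.2 ⟨hK, h⟩ hKM))
  obtain ⟨hs, hnc, -⟩ := minimal_normal_simple hG M hM.1.2 hmin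
  refine ⟨M, hM.1.1, hs, hnc, ?_⟩
  by_contra hc
  obtain ⟨N, hN, h2N, h2⟩ := exists_pair_of_centralizer hG M hM.1.2 hmin hc
  haveI := hN
  exact false_of_normal hG N h2N h2

end Cfsg.Agent.Solv.GraphBound
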