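import Cfsg.Agent.Lib.Solv.GraphBound.Fibre
import Cfsg.Agent.Lib.Perm.CharSimple
import Cfsg.Agent.Lib.Solv.Cores
import Cfsg.Agent.Lib.OddChar.FT.NoMinimal
import Cfsg.Agent.Lib.OddChar.FT.Final

/-!
Minimal normal subgroups when the prime graph is shared by boundedly many groups.
-/

set_option autoImplicit false
set_option linter.style.haveILetI false

namespace Cfsg.Agent.Solv.GraphBound

universe u

variable {G : Type u} [Group G] [Finite G]

/-- Every minimal normal subgroup is simple, not commutative and of even order. -/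
theorem minimal_normal_simple (hG : Bounded G) (M : Subgroup G) [M.Normal] (hM : M ≠ ⊥)
    (hmin : ∀ K : Subgroup G, K.Normal → K ≤ M → K = ⊥ ∨ K = M) :
    IsSimpleGroup ↥M ∧ ¬ IsMulCommutative ↥M ∧ 2 ∣ Nat.card M := by
  classical
  obtain ⟨T, _, m, hT, hm, ⟨e⟩⟩ := Perm.minimal_normal_power M hM hmin
  haveI : Finite (Fin m → T) := Finite.of_equiv M e.toEquiv
  haveI : Nonempty (Fin m) := ⟨⟨0, hm⟩⟩
  haveI : Finite T := Finite.of_injective (fun (t : T) (_ : Fin m) => t) fun a b h => congrFun h ⟨0, hm⟩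
  have hcard : Nat.card M = Nat.card T ^ m := by
    rw [Nat.card_congr e.toEquiv, Nat.card_fun, Nat.card_fin]
  -- the factor is not commutative
  have hnc : ¬ ∀ a b : T, a * b = b * a := by
    intro hc
    letI : CommGroup T := { (inferInstance : Group T) with mul_comm := hc }
    have hpr : (Nat.card T).Prime := IsSimpleGroup.prime_card
    refine false_of_clique hG M hM fun p q hp hq hne h h' => absurd ?_ hne
    rw [hcard] at h h'
    rw [(Nat.prime_dvd_prime_iff_eq hp hpr).1 (hp.dvd_of_dvd_pow h),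
      (Nat.prime_dvd_prime_iff_eq hq hpr).1 (hq.dvd_of_dvd_pow h')]
  -- only one factor
  have hm1 : m = 1 := by
    by_contra hne1
    refine false_of_clique hG M hM fun p q hp hq hne h h' => ?_
    rw [hcard] at h h'
    haveI := Fact.mk hp
    haveI := Fact.mk hq
    obtain ⟨a, ha⟩ := exists_prime_orderOf_dvd_card' p (hp.dvd_of_dvd_pow h)
    obtain ⟨b, hb⟩ := exists_prime_orderOf_dvd_card' q (hq.dvd_of_dvd_pow h')
    let i : Fin m := ⟨0, hm⟩
    let j : Fin m := ⟨1, by omega⟩
    have hij : i ≠ j := fun h0 => by simp [i, j, Fin.ext_iff] at h0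
    let f : (Fin m → T) →* G := M.subtype.comp e.symm.toMonoidHom
    have hf : Function.Injective f := M.subtype_injective.comp e.symm.injective
    refine adj_of_commute hp hq hne (a := f (Pi.mulSingle i a)) (b := f (Pi.mulSingle j b)) ?_ ?_ ?_
    · rw [orderOf_injective f hf]
      exact (orderOf_injective (MonoidHom.mulSingle (fun _ : Fin m => T) i)
        (fun x y hxy => Pi.mulSingle_injective (M := fun _ : Fin m => T) i hxy) a).trans ha
    · rw [orderOf_injective f hf]
      exact (orderOf_injective (MonoidHom.mulSingle (fun _ : Fin m => T) j)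
        (fun x y hxy => Pi.mulSingle_injective (M := fun _ : Fin m => T) j hxy) b).trans hb
    · exact ((Pi.mulSingle_commute (f := fun _ : Fin m => T)) hij a b).map f
  subst hm1
  let e1 : M ≃* T := e.trans
    { toFun := fun f => f 0
      invFun := fun t _ => t
      left_inv := fun f => funext fun k => by rw [Subsingleton.elim k 0]
      right_inv := fun t => rfl
      map_mul' := fun _ _ => rfl }
  haveI hs : IsSimpleGroup ↥M := by
    haveI : Nontrivial ↥M := (Subgroup.nontrivial_iff_ne_bot M).2 hM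
    exact IsSimpleGroup.isSimpleGroup_of_surjective e1.symm.toMonoidHom e1.symm.surjective
  have hMnc : ¬ IsMulCommutative ↥M := fun hc => hnc fun a b => e1.symm.injective (by
    rw [map_mul, map_mul]
    exact hc.is_comm.comm _ _)
  refine ⟨hs, hMnc, ?_⟩
  by_contra h2
  have hodd : Odd (Nat.card M) := Nat.odd_iff.2 (Nat.two_dvd_ne_zero.1 h2)
  haveI : Group.IsSolvable ↥M :=
    OddFT.odd_solvable_of_no_min (fun G _ _ h => OddFT.no_minSimple G h) hodd
  exact hMnc ⟨⟨IsSimpleGroup.comm_iff_isSolvable.2 inferInstance⟩⟩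

/-- Two commuting minimal normal subgroups: every odd prime of their product is joined to two. -/
theorem exists_pair_of_centralizer (hG : Bounded G) (M : Subgroup G) [M.Normal] (hM : M ≠ ⊥)
    (hmin : ∀ K : Subgroup G, K.Normal → K ≤ M → K = ⊥ ∨ K = M)
    (hc : Subgroup.centralizer (M : Set G) ≠ ⊥) :
    ∃ N : Subgroup G, N.Normal ∧ 2 ∣ Nat.card N ∧
      ∀ p : ℕ, p.Prime → p ≠ 2 → p ∣ Nat.card N → Adj G 2 p := by
  classical
  obtain ⟨-, hMnc, hM2⟩ := minimal_normal_simple hG M hM hmin
  obtain ⟨M', hM'le, hM'⟩ := (Finite.exists_le_minimal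
    (p := fun K : Subgroup G => K.Normal ∧ K ≠ ⊥ ∧ K ≤ Subgroup.centralizer (M : Set G))
    (a := Subgroup.centralizer (M : Set G)) ⟨inferInstance, hc, le_rfl⟩)
  haveI := hM'.1.1
  obtain ⟨-, -, hM'2⟩ := minimal_normal_simple hG M' hM'.1.2.1 fun K hK hKle => by
    by_cases h0 : K = ⊥
    · exact Or.inl h0
    · exact Or.inr (le_antisymm hKle (hM'.2 ⟨hK, h0, hKle.trans hM'.1.2.2⟩ hKle))
  refine ⟨M ⊔ M', inferInstance, hM2.trans (Subgroup.card_dvd_of_le le_sup_left), fun p hp hp2 hpd => ?_⟩
  haveI := Fact.mk hp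
  haveI := Fact.mk Nat.prime_two
  have hcomm : ∀ a ∈ M, ∀ b ∈ M', Commute a b := fun a ha b hb =>
    Subgroup.mem_centralizer_iff.1 (hM'.1.2.2 hb) a ha
  rcases hp.dvd_mul.1 (hpd.trans (Solv.card_sup_dvd M M')) with h | h
  · obtain ⟨a, ha⟩ := exists_prime_orderOf_dvd_card' p h
    obtain ⟨b, hb⟩ := exists_prime_orderOf_dvd_card' 2 hM'2
    exact (adj_of_commute hp Nat.prime_two hp2 (by rw [Subgroup.orderOf_coe]; exact ha)
      (by rw [Subgroup.orderOf_coe]; exact hb) (hcomm a a.2 b b.2)).symm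
  · obtain ⟨a, ha⟩ := exists_prime_orderOf_dvd_card' 2 hM2
    obtain ⟨b, hb⟩ := exists_prime_orderOf_dvd_card' p h
    exact adj_of_commute Nat.prime_two hp (Ne.symm hp2) (by rw [Subgroup.orderOf_coe]; exact ha)
      (by rw [Subgroup.orderOf_coe]; exact hb) (hcomm a a.2 b b.2)

end Cfsg.Agent.Solv.GraphBound
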