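import Cfsg.Agent.Lib.Solv.GraphBound.Fibre
import Mathlib.GroupTheory.SemidirectProduct
import Mathlib.Algebra.Group.Subgroup.Map
import Mathlib.Algebra.Group.Pi.Lemmas
import Mathlib.Data.Nat.Factorization.Basic

/-!
Covers of a group by induced modules in characteristic two keep the prime graph.
-/

set_option autoImplicit false
set_option linter.style.haveILetI false

namespace Cfsg.Agent.Solv.GraphBound

universe u v

/-- A bad prime: an odd vertex not joined to two. -/
def Bad (G : Type u) [Group G] (r : ℕ) : Prop :=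
  r.Prime ∧ r ≠ 2 ∧ r ∣ Nat.card G ∧ ¬ Adj G 2 r

/-- A good prime for a normal subgroup: joined to all the other primes of it. -/
def Good {G : Type u} [Group G] (N : Subgroup G) (q : ℕ) : Prop :=
  ∀ p : ℕ, p.Prime → p ∣ Nat.card N → p ≠ q → Adj G q p

section Module

variable {W : Type u} [Group W] (K : Subgroup W) {U : Type v} [CommGroup U] (σ : K →* MulAut U)
  (k : ℕ)

/-- Copies of the module induced from a subgroup. -/
def indMod : Subgroup (W → Fin k → U) where
  carrier := {f | ∀ (c : K) (x : W) (i : Fin k), f ((c : W) * x) i = σ c (f x i)}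
  one_mem' c x i := by simp
  mul_mem' {a b} ha hb c x i := by
    show a ((c : W) * x) i * b ((c : W) * x) i = σ c (a x i * b x i)
    rw [map_mul, ha c x i, hb c x i]
  inv_mem' {a} ha c x i := by
    show (a ((c : W) * x) i)⁻¹ = σ c (a x i)⁻¹
    rw [map_inv, ha c x i]

/-- Right translation on the induced module. -/
def indShift : W →* MulAut ↥(indMod K σ k) where
  toFun w :=
    { toFun := fun f => ⟨fun x => f.1 (x * w), fun c x i => by
        show f.1 ((c : W) * x * w) i = σ c (f.1 (x * w) i)
        rw [mul_assoc]; exact f.2 c (x * w) i⟩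
      invFun := fun f => ⟨fun x => f.1 (x * w⁻¹), fun c x i => by
        show f.1 ((c : W) * x * w⁻¹) i = σ c (f.1 (x * w⁻¹) i)
        rw [mul_assoc]; exact f.2 c (x * w⁻¹) i⟩
      left_inv := fun f => Subtype.ext (funext fun x => by
        show f.1 (x * w⁻¹ * w) = f.1 x
        rw [inv_mul_cancel_right])
      right_inv := fun f => Subtype.ext (funext fun x => by
        show f.1 (x * w * w⁻¹) = f.1 x
        rw [mul_inv_cancel_right])
      map_mul' := fun f g => rfl }
  map_one' := by
    refine MulEquiv.ext fun f => Subtype.ext (funext fun x => ?_)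
    show f.1 (x * 1) = f.1 x
    rw [mul_one]
  map_mul' a b := by
    refine MulEquiv.ext fun f => Subtype.ext (funext fun x => ?_)
    show f.1 (x * (a * b)) = f.1 (x * a * b)
    rw [mul_assoc]

theorem indShift_eq_one {d : W} (hd : ∀ y : W, ∃ c : K, (c : W) = y * d * y⁻¹ ∧ σ c = 1) :
    indShift K σ k d = 1 := by
  refine MulEquiv.ext fun f => Subtype.ext (funext fun y => funext fun i => ?_)
  obtain ⟨c, hc, hc1⟩ := hd y
  show f.1 (y * d) i = f.1 y i
  rw [show y * d = (c : W) * y by rw [hc]; group, f.2 c y i, hc1]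
  rfl

theorem indShift_fixed_eq_one {x : W} (hx : ∀ y : W, ∃ c : K, (c : W) = y * x * y⁻¹ ∧
    ∀ u : U, σ c u = u → u = 1) {f : ↥(indMod K σ k)} (hf : indShift K σ k x f = f) : f = 1 := by
  refine Subtype.ext (funext fun y => funext fun i => ?_)
  obtain ⟨c, hc, hc1⟩ := hx y
  refine hc1 _ ?_
  have h1 : f.1 (y * x) i = f.1 y i := congrFun (congrFun (congrArg Subtype.val hf) y) i
  rw [show y * x = (c : W) * y by rw [hc]; group, f.2 c y i] at h1
  exact h1

theorem indMod_sq (hU : ∀ u : U, u ^ 2 = 1) (f : ↥(indMod K σ k)) : f ^ 2 = 1 :=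
  Subtype.ext (funext fun x => funext fun i => hU (f.1 x i))

theorem two_pow_le_card_indMod [Finite W] [Finite U] [Nontrivial U] :
    2 ^ k ≤ Nat.card ↥(indMod K σ k) := by
  classical
  obtain ⟨u, hu⟩ := exists_ne (1 : U)
  let F : (Fin k → Bool) → ↥(indMod K σ k) := fun b =>
    ⟨fun w i => if h : w ∈ K then σ ⟨w, h⟩ (if b i then u else 1) else 1, fun c x i => by
      by_cases h : x ∈ K
      · simp only [dif_pos (K.mul_mem c.2 h), dif_pos h]
        rw [show (⟨(c : W) * x, K.mul_mem c.2 h⟩ : K) = c * ⟨x, h⟩ from rfl, map_mul,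
          MulAut.mul_apply]
      · have h' : (c : W) * x ∉ K := fun h' => h ((K.mul_mem_cancel_left c.2).1 h')
        simp only [dif_neg h', dif_neg h, map_one]⟩
  have hF : Function.Injective F := by
    intro b b' he
    funext i
    have h1 := congrFun (congrFun (congrArg Subtype.val he) 1) i
    simp only [F, dif_pos K.one_mem] at h1
    have h2 := (σ ⟨1, K.one_mem⟩).injective h1
    cases hb : b i <;> cases hb' : b' i <;> simp_all
  have := Nat.card_le_card_of_injective F hF
  simpa [Nat.card_fun, Nat.card_eq_fintype_card (α := Bool)] using this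

end Module

/-- The cover is impossible when the graph is shared by boundedly many groups. -/
theorem false_of_cover {G : Type u} [Group G] [Finite G] (hG : Bounded G) (N : Subgroup G)
    [N.Normal] (h2N : 2 ∣ Nat.card N)
    (h2 : ∀ p : ℕ, p.Prime → p ≠ 2 → p ∣ Nat.card N → Adj G 2 p)
    (W : Subgroup G) (hW : W ⊔ N = ⊤) (K D : Subgroup ↥W) [D.Normal] (hDK : D ≤ K)
    (hDN : D ≤ N.subgroupOf W) (hK : ∀ x : ↥W, Bad G (orderOf x) → x ∈ K)
    (U : Type u) [CommGroup U] [Finite U] [Nontrivial U] (hU : ∀ u : U, u ^ 2 = 1)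
    (σ : K →* MulAut U) (hσD : ∀ d : K, (d : ↥W) ∈ D → σ d = 1)
    (hσx : ∀ x : K, Bad G (orderOf (x : ↥W)) → ∀ u : U, σ x u = u → u = 1)
    (hB : ∀ q : ℕ, q.Prime → ¬ Good N q → ∀ d : ↥W, (d : G) ∈ N →
      (∃ a : ℕ, orderOf d = q ^ a) → d ∈ D) : False := by
  classical
  refine false_of_family hG fun k => ?_
  let V := ↥(indMod K σ k)
  let α : ↥W ⧸ D →* MulAut V := QuotientGroup.lift D (indShift K σ k) fun d hd =>
    indShift_eq_one K σ k fun y =>
      ⟨⟨y * d * y⁻¹, hDK (Subgroup.Normal.conj_mem inferInstance d hd y)⟩, rfl,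
        hσD _ (Subgroup.Normal.conj_mem inferInstance d hd y)⟩
  let φW : ↥W →* G ⧸ N := (QuotientGroup.mk' N).comp W.subtype
  have hφW : Function.Surjective φW := fun y => by
    obtain ⟨g, rfl⟩ := QuotientGroup.mk_surjective y
    obtain ⟨w, hw, n, hn, rfl⟩ := Subgroup.mem_sup_of_normal_right.1 (hW ▸ Subgroup.mem_top g)
    refine ⟨⟨w, hw⟩, ?_⟩
    show QuotientGroup.mk' N w = QuotientGroup.mk' N (w * n)
    rw [map_mul, show QuotientGroup.mk' N n = 1 from (QuotientGroup.eq_one_iff n).2 hn, mul_one]
  let φD : ↥W ⧸ D →* G ⧸ N := QuotientGroup.lift D φW fun d hd =>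
    (QuotientGroup.eq_one_iff (d : G)).2 (hDN hd)
  haveI : Finite (SemidirectProduct V (↥W ⧸ D) α) := Finite.of_equiv _ SemidirectProduct.equivProd.symm
  let ψ : SemidirectProduct V (↥W ⧸ D) α →* G ⧸ N := φD.comp SemidirectProduct.rightHom
  have hψ : Function.Surjective ψ := fun y => by
    obtain ⟨w, hw⟩ := hφW y
    refine ⟨SemidirectProduct.inr (w : ↥W ⧸ D), ?_⟩
    show φD (SemidirectProduct.rightHom (SemidirectProduct.inr (w : ↥W ⧸ D) : SemidirectProduct V (↥W ⧸ D) α)) = y
    rw [SemidirectProduct.rightHom_inr]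
    exact hw
  -- the elements over the identity have order at most two
  have hker : ∀ x : SemidirectProduct V (↥W ⧸ D) α, SemidirectProduct.rightHom x = 1 →
      orderOf x ∣ 2 := fun x hx => by
    obtain ⟨f, rfl⟩ : x ∈ (SemidirectProduct.inl : V →* SemidirectProduct V (↥W ⧸ D) α).range := by
      rw [SemidirectProduct.range_inl_eq_ker_rightHom]; exact hx
    rw [orderOf_injective _ SemidirectProduct.inl_injective]
    exact orderOf_dvd_of_pow_eq_one (indMod_sq K σ k hU f)
  have hcardG : ∀ p : ℕ, p.Prime → p ∣ Nat.card (SemidirectProduct V (↥W ⧸ D) α) →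
      p ∣ Nat.card G := by
    intro p hp h
    haveI := Fact.mk hp
    obtain ⟨x, hx⟩ := exists_prime_orderOf_dvd_card' p h
    rcases (Nat.dvd_prime hp).1 (hx ▸ orderOf_map_dvd SemidirectProduct.rightHom x) with h1 | h1
    · rw [orderOf_eq_one_iff] at h1
      rw [(Nat.prime_dvd_prime_iff_eq hp Nat.prime_two).1 (hx ▸ hker x h1)]
      exact h2N.trans (Subgroup.card_subgroup_dvd_card N)
    · rw [← h1]
      exact (orderOf_dvd_natCard _).trans
        ((Subgroup.card_quotient_dvd_card D).trans (Subgroup.card_subgroup_dvd_card W))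
  -- no new edge
  have hedge : ∀ p q : ℕ, p.Prime → q.Prime → p ≠ q →
      Adj (SemidirectProduct V (↥W ⧸ D) α) p q → Adj G p q := by
    intro p q hp hq hne
    rintro ⟨x, hx⟩
    obtain ⟨w, hw⟩ := QuotientGroup.mk_surjective (SemidirectProduct.rightHom x)
    have hwo : orderOf (SemidirectProduct.rightHom x) ∣ orderOf (w : G) := by
      rw [← hw, Subgroup.orderOf_coe]
      exact orderOf_map_dvd (QuotientGroup.mk' D) w
    have hsplit := orderOf_split (SemidirectProduct.rightHom) x
    have h2' : orderOf (x ^ orderOf (SemidirectProduct.rightHom x)) ∣ 2 :=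
      hker _ (by rw [map_pow, pow_orderOf_eq_one])
    by_cases hfull : p ∣ orderOf (SemidirectProduct.rightHom x) ∧
        q ∣ orderOf (SemidirectProduct.rightHom x)
    · exact adj_of_dvd hp hq hne (hfull.1.trans hwo) (hfull.2.trans hwo)
    -- one of the primes is two, the other lives in the complement
    obtain ⟨s, hs, hs2, hso, hsymm⟩ : ∃ s : ℕ, s.Prime ∧ s ≠ 2 ∧
        orderOf (SemidirectProduct.rightHom x) = s ∧ (Adj G 2 s → Adj G p q) := by
      rw [hx] at hsplit
      have ha1 : orderOf (x ^ orderOf (SemidirectProduct.rightHom x)) ≠ 1 := fun h => by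
        rw [h, mul_one] at hsplit
        exact hfull ⟨hsplit ▸ dvd_mul_right p q, hsplit ▸ dvd_mul_left q p⟩
      rw [((Nat.dvd_prime Nat.prime_two).1 h2').resolve_left ha1] at hsplit
      rcases (Nat.Prime.dvd_mul Nat.prime_two).1 (hsplit ▸ dvd_mul_left 2 _) with h | h
      · have hp2 := ((Nat.prime_dvd_prime_iff_eq Nat.prime_two hp).1 h).symm
        subst hp2
        exact ⟨q, hq, Ne.symm hne, by omega, id⟩
      · have hq2 := ((Nat.prime_dvd_prime_iff_eq Nat.prime_two hq).1 h).symm
        subst hq2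
        exact ⟨p, hp, hne, by omega, Adj.symm⟩
    refine hsymm ?_
    by_contra hno
    have hsG : s ∣ Nat.card G := (hso ▸ hwo).trans (orderOf_dvd_natCard _)
    have hsN : ¬ s ∣ Nat.card N := fun h => hno (h2 s hs hs2 h)
    have hsD : (Nat.card D).Coprime s := by
      refine (hs.coprime_iff_not_dvd.2 fun h => hsN (h.trans ?_)).symm
      refine (Subgroup.card_dvd_of_le hDN).trans ?_
      rw [← Subgroup.card_map_of_injective W.subtype_injective, Subgroup.subgroupOf_map_subtype]
      exact Subgroup.card_dvd_of_le inf_le_left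
    -- an element of order `s` over the image
    have hwD : w ^ s ∈ D := by
      rw [← QuotientGroup.eq_one_iff, QuotientGroup.mk_pow, hw, ← hso, pow_orderOf_eq_one]
    set y := w ^ Nat.card D with hy
    have hyimg : (y : ↥W ⧸ D) = SemidirectProduct.rightHom x ^ Nat.card D := by
      rw [hy, QuotientGroup.mk_pow, hw]
    have hys : orderOf y = s := by
      haveI := Fact.mk hs
      refine orderOf_eq_prime ?_ fun h1 => ?_
      · rw [hy, ← pow_mul, mul_comm, pow_mul]
        exact congrArg Subtype.val (pow_card_eq_one' (G := ↥D) (x := ⟨w ^ s, hwD⟩))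
      · rw [h1] at hyimg
        have h3 : s ∣ Nat.card D := hso ▸ orderOf_dvd_of_pow_eq_one hyimg.symm
        exact hs.not_dvd_one (hsD ▸ Nat.dvd_gcd h3 dvd_rfl)
    -- an involution of the module fixed by it
    set g := x ^ s with hg
    have hg1 : g ≠ 1 := fun h => by
      have hps : p * q ∣ s := hx ▸ orderOf_dvd_of_pow_eq_one h
      exact hne ((Nat.prime_dvd_prime_iff_eq hp hs).1 ((dvd_mul_right p q).trans hps) |>.trans
        ((Nat.prime_dvd_prime_iff_eq hq hs).1 ((dvd_mul_left q p).trans hps)).symm)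
    obtain ⟨f, hf⟩ : g ∈ (SemidirectProduct.inl : V →* SemidirectProduct V (↥W ⧸ D) α).range := by
      rw [SemidirectProduct.range_inl_eq_ker_rightHom, MonoidHom.mem_ker, hg, map_pow, ← hso,
        pow_orderOf_eq_one]
    have hfix : α (SemidirectProduct.rightHom x) f = f := by
      have hc : x * g = g * x := (Commute.self_pow x s).eq
      rw [← hf] at hc
      have h4 := congrArg SemidirectProduct.left hc
      simp only [SemidirectProduct.mul_left, SemidirectProduct.left_inl, SemidirectProduct.right_inl,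
        map_one, MulAut.one_apply] at h4
      rw [mul_comm f] at h4
      exact mul_left_cancel h4
    have hstab : α (SemidirectProduct.rightHom x ^ Nat.card D) f = f :=
      (MulAction.stabilizer (MulAut V) f).pow_mem
        (show α (SemidirectProduct.rightHom x) ∈ MulAction.stabilizer (MulAut V) f from hfix)
        (Nat.card D) |> fun h => by rw [map_pow]; exact h
    rw [← hyimg] at hstab
    have hbad : ∀ c : ↥W, orderOf c = s → Bad G (orderOf c) := fun c hc => hc ▸ ⟨hs, hs2, hsG, hno⟩
    refine hg1 ?_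
    rw [← hf, indShift_fixed_eq_one K σ k (x := y) (fun c => ?_) hstab, map_one]
    have hco : orderOf (c * y * c⁻¹) = s := by
      rw [← hys]
      exact orderOf_injective (MulAut.conj c).toMonoidHom (MulAut.conj c).injective y
    exact ⟨⟨c * y * c⁻¹, hK _ (hbad _ hco)⟩, rfl, hσx _ (hbad _ hco)⟩
  refine ⟨↥(fibreProd (QuotientGroup.mk' N) ψ), inferInstance, inferInstance,
    sameGraph_fibre _ hψ hcardG hedge fun p q hp hq hne hpN hqk => ?_, ?_⟩
  · -- the two kernels meet in edges
    rw [QuotientGroup.ker_mk'] at hpN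
    have hgood : Good N q := by
      by_cases hq2 : q = 2
      · subst hq2
        exact fun r hr hrN hr2 => h2 r hr hr2 hrN
      haveI := Fact.mk hq
      obtain ⟨x, hx⟩ := exists_prime_orderOf_dvd_card' q hqk
      by_contra hbadq
      have hxo : orderOf (x : SemidirectProduct V (↥W ⧸ D) α) = q := by rw [Subgroup.orderOf_coe, hx]
      obtain ⟨w, hw⟩ := QuotientGroup.mk_surjective
        (SemidirectProduct.rightHom (x : SemidirectProduct V (↥W ⧸ D) α))
      have hwN : (w : G) ∈ N := by
        have h := x.2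
        rw [MonoidHom.mem_ker] at h
        change φD (SemidirectProduct.rightHom (x : SemidirectProduct V (↥W ⧸ D) α)) = 1 at h
        rw [← hw] at h
        exact (QuotientGroup.eq_one_iff (w : G)).1 h
      rcases (Nat.dvd_prime hq).1 (hxo ▸ orderOf_map_dvd SemidirectProduct.rightHom
        (x : SemidirectProduct V (↥W ⧸ D) α)) with h1 | h1
      · rw [orderOf_eq_one_iff] at h1
        exact hq2 ((Nat.prime_dvd_prime_iff_eq hq Nat.prime_two).1 (hxo ▸ hker _ h1))
      · obtain ⟨a, m, hm, hwo⟩ := Nat.exists_eq_pow_mul_and_not_dvd (orderOf_pos w).ne' q hq.ne_one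
        have hm0 : m ≠ 0 := fun h => hm (h ▸ dvd_zero q)
        have hd : w ^ m ∈ D := hB q hq hbadq _ (N.pow_mem hwN m) ⟨a, by
          rw [orderOf_pow, hwo, Nat.gcd_mul_left_left, Nat.mul_div_cancel _ (Nat.pos_of_ne_zero hm0)]⟩
        rw [← QuotientGroup.eq_one_iff, QuotientGroup.mk_pow, hw, ← orderOf_dvd_iff_pow_eq_one, h1] at hd
        exact hm hd
    exact (hgood p hp hpN hne).symm
  · rw [card_fibreProd _ hψ]
    refine lt_of_lt_of_le (Nat.lt_two_pow_self (n := k)) ((two_pow_le_card_indMod K σ k).trans ?_)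
    refine le_trans ?_ (Nat.le_mul_of_pos_left _ Nat.card_pos)
    refine Nat.card_le_card_of_injective (fun f => ⟨SemidirectProduct.inl f, ?_⟩) fun a b h =>
      SemidirectProduct.inl_injective (congrArg Subtype.val h)
    show φD (SemidirectProduct.rightHom (SemidirectProduct.inl f : SemidirectProduct V (↥W ⧸ D) α)) = 1
    rw [SemidirectProduct.rightHom_inl, map_one]

end Cfsg.Agent.Solv.GraphBound
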