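import Mathlib.GroupTheory.OrderOfElement
import Mathlib.GroupTheory.Perm.Cycle.Type
import Mathlib.GroupTheory.QuotientGroup.Basic
import Mathlib.Algebra.Group.Shrink

/-!
Groups whose prime graph is shared by only boundedly many groups: fibre products keep the graph.
-/

set_option autoImplicit false
set_option linter.style.haveILetI false

namespace Cfsg.Agent.Solv.GraphBound

universe u v w

/-- Two numbers are joined when some element has their product as its order. -/
def Adj (G : Type u) [Group G] (p q : ℕ) : Prop := ∃ g : G, orderOf g = p * q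

/-- The same vertices and the same edges. -/
def SameGraph (G : Type u) (H : Type v) [Group G] [Group H] : Prop :=
  (∀ p : ℕ, p.Prime → (p ∣ Nat.card G ↔ p ∣ Nat.card H)) ∧
    ∀ p q : ℕ, p.Prime → q.Prime → p ≠ q → (Adj G p q ↔ Adj H p q)

/-- The orders of the groups with this graph are bounded. -/
def Bounded (G : Type u) [Group G] : Prop :=
  ∃ n : ℕ, ∀ (H : Type) [Group H] [Finite H], SameGraph G H → Nat.card H ≤ n

variable {G : Type u} [Group G]

theorem Adj.symm {p q : ℕ} (h : Adj G p q) : Adj G q p := by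
  rwa [Adj, mul_comm]

theorem adj_of_dvd [Finite G] {p q : ℕ} (hp : p.Prime) (hq : q.Prime) (hne : p ≠ q) {g : G}
    (hgp : p ∣ orderOf g) (hgq : q ∣ orderOf g) : Adj G p q :=
  ⟨g ^ (orderOf g / (p * q)), orderOf_pow_orderOf_div (orderOf_pos g).ne'
    (((Nat.coprime_primes hp hq).2 hne).mul_dvd_of_dvd_of_dvd hgp hgq)⟩

theorem adj_of_commute [Finite G] {p q : ℕ} (hp : p.Prime) (hq : q.Prime) (hne : p ≠ q) {a b : G}
    (ha : orderOf a = p) (hb : orderOf b = q) (hc : Commute a b) : Adj G p q :=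
  ⟨a * b, by
    rw [hc.orderOf_mul_eq_mul_orderOf_of_coprime (by rw [ha, hb]; exact (Nat.coprime_primes hp hq).2 hne),
      ha, hb]⟩

theorem Adj.map {H : Type v} [Group H] {f : G →* H} (hf : Function.Injective f) {p q : ℕ}
    (h : Adj G p q) : Adj H p q := by
  obtain ⟨g, hg⟩ := h
  exact ⟨f g, by rw [orderOf_injective f hf, hg]⟩

theorem Adj.lift {H : Type v} [Group H] [Finite H] {f : H →* G} (hf : Function.Surjective f)
    {p q : ℕ} (hp : p.Prime) (hq : q.Prime) (hne : p ≠ q) (h : Adj G p q) : Adj H p q := by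
  obtain ⟨g, hg⟩ := h
  obtain ⟨x, rfl⟩ := hf g
  exact adj_of_dvd hp hq hne ((hg ▸ dvd_mul_right p q).trans (orderOf_map_dvd f x))
    ((hg ▸ dvd_mul_left q p).trans (orderOf_map_dvd f x))

theorem sameGraph_refl : SameGraph G G := ⟨fun _ _ => Iff.rfl, fun _ _ _ _ _ => Iff.rfl⟩

theorem SameGraph.symm {H : Type v} [Group H] (h : SameGraph G H) : SameGraph H G :=
  ⟨fun p hp => (h.1 p hp).symm, fun p q hp hq hne => (h.2 p q hp hq hne).symm⟩

theorem SameGraph.trans {H : Type v} [Group H] {K : Type w} [Group K] (h : SameGraph G H)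
    (h' : SameGraph H K) : SameGraph G K :=
  ⟨fun p hp => (h.1 p hp).trans (h'.1 p hp),
    fun p q hp hq hne => (h.2 p q hp hq hne).trans (h'.2 p q hp hq hne)⟩

theorem sameGraph_of_equiv {H : Type v} [Group H] (e : G ≃* H) : SameGraph G H := by
  refine ⟨fun p _ => by rw [Nat.card_congr e.toEquiv], fun p q _ _ _ => ⟨fun h => ?_, fun h => ?_⟩⟩
  · exact h.map (f := e.toMonoidHom) e.injective
  · exact h.map (f := e.symm.toMonoidHom) e.symm.injective

/-- No family of groups with the same graph has unbounded orders. -/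
theorem false_of_family (hG : Bounded G)
    (fam : ∀ n : ℕ, ∃ (H : Type v) (_ : Group H) (_ : Finite H), SameGraph G H ∧ n < Nat.card H) :
    False := by
  obtain ⟨n, hn⟩ := hG
  obtain ⟨H, _, _, hH, hlt⟩ := fam n
  have hH' : SameGraph G (Shrink.{0} H) := hH.trans (sameGraph_of_equiv Shrink.mulEquiv.symm)
  haveI : Finite (Shrink.{0} H) := Finite.of_equiv H (equivShrink.{0} H)
  have := hn (Shrink.{0} H) hH'
  rw [Nat.card_congr (equivShrink.{0} H).symm] at this
  omega

/-- The fibre product of two groups over a common quotient. -/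
def fibreProd {H₀ : Type v} [Group H₀] {Q : Type w} [Group Q] (φ : G →* Q) (ψ : H₀ →* Q) :
    Subgroup (G × H₀) :=
  (φ.comp (MonoidHom.fst G H₀)).eqLocus (ψ.comp (MonoidHom.snd G H₀))

/-- The projection of the fibre product on the first factor. -/
def fibreFst {H₀ : Type v} [Group H₀] {Q : Type w} [Group Q] (φ : G →* Q) (ψ : H₀ →* Q) :
    ↥(fibreProd φ ψ) →* G :=
  (MonoidHom.fst G H₀).comp (fibreProd φ ψ).subtype

theorem fibreFst_surjective {H₀ : Type v} [Group H₀] {Q : Type w} [Group Q] (φ : G →* Q)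
    {ψ : H₀ →* Q} (hψ : Function.Surjective ψ) : Function.Surjective (fibreFst φ ψ) := fun g => by
  obtain ⟨h, hh⟩ := hψ (φ g)
  exact ⟨⟨(g, h), hh.symm⟩, rfl⟩

theorem card_fibreProd {H₀ : Type v} [Group H₀] {Q : Type w} [Group Q] (φ : G →* Q)
    {ψ : H₀ →* Q} (hψ : Function.Surjective ψ) :
    Nat.card ↥(fibreProd φ ψ) = Nat.card G * Nat.card ψ.ker := by
  rw [Subgroup.card_eq_card_quotient_mul_card_subgroup (fibreFst φ ψ).ker,
    Nat.card_congr (QuotientGroup.quotientKerEquivOfSurjective _ (fibreFst_surjective φ hψ)).toEquiv]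
  congr 1
  refine Nat.card_congr
    { toFun := fun x => ⟨x.1.1.2, ?_⟩
      invFun := fun h => ⟨⟨(1, h.1), ?_⟩, rfl⟩
      left_inv := fun x => ?_
      right_inv := fun h => rfl }
  · have h1 : φ x.1.1.1 = ψ x.1.1.2 := x.1.2
    have h2 : x.1.1.1 = 1 := x.2
    rw [MonoidHom.mem_ker, ← h1, h2, map_one]
  · show φ 1 = ψ h.1
    rw [map_one, MonoidHom.mem_ker.1 h.2]
  · refine Subtype.ext (Subtype.ext (Prod.ext ?_ rfl))
    exact (x.2 : x.1.1.1 = 1).symm

theorem orderOf_split {H : Type v} [Group H] [Finite G] (φ : G →* H) (g : G) :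
    orderOf g = orderOf (φ g) * orderOf (g ^ orderOf (φ g)) := by
  rw [orderOf_pow, Nat.gcd_eq_right (orderOf_map_dvd φ g), Nat.mul_div_cancel' (orderOf_map_dvd φ g)]

/-- A fibre product has the graph of `G` when the second factor brings neither a new vertex nor
a new edge and the two kernels only meet in edges. -/
theorem sameGraph_fibre [Finite G] {H₀ : Type v} [Group H₀] [Finite H₀] {Q : Type w} [Group Q]
    (φ : G →* Q) {ψ : H₀ →* Q} (hψ : Function.Surjective ψ)
    (h1 : ∀ p : ℕ, p.Prime → p ∣ Nat.card H₀ → p ∣ Nat.card G)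
    (h2 : ∀ p q : ℕ, p.Prime → q.Prime → p ≠ q → Adj H₀ p q → Adj G p q)
    (h3 : ∀ p q : ℕ, p.Prime → q.Prime → p ≠ q →
      p ∣ Nat.card φ.ker → q ∣ Nat.card ψ.ker → Adj G p q) :
    SameGraph G ↥(fibreProd φ ψ) := by
  refine ⟨fun p hp => ?_, fun p q hp hq hne => ⟨fun h => h.lift (fibreFst_surjective φ hψ) hp hq hne, ?_⟩⟩
  · rw [card_fibreProd φ hψ]
    refine ⟨fun h => h.mul_right _, fun h => (hp.dvd_mul.1 h).elim id fun h' => ?_⟩
    exact h1 p hp (h'.trans (Subgroup.card_subgroup_dvd_card _))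
  rintro ⟨x, hx⟩
  obtain ⟨⟨g, h⟩, hgh⟩ := x
  change φ g = ψ h at hgh
  have hlcm : p * q ∣ orderOf g * orderOf h := by
    rw [← hx, ← Subgroup.orderOf_coe, Prod.orderOf]
    exact Nat.lcm_dvd_mul _ _
  have key : ∀ a b : ℕ, a.Prime → b.Prime → a ≠ b → a ∣ orderOf g → ¬ a ∣ orderOf h →
      b ∣ orderOf h → ¬ b ∣ orderOf g → Adj G a b := by
    intro a b ha hb hab hag hah hbh hbg
    refine h3 a b ha hb hab ?_ ?_
    · refine ((ha.dvd_mul.1 (orderOf_split φ g ▸ hag)).resolve_left fun h' => hah ?_).trans ?_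
      · rw [hgh] at h'
        exact h'.trans (orderOf_map_dvd ψ h)
      · exact Subgroup.orderOf_dvd_natCard φ.ker
          (show φ (g ^ orderOf (φ g)) = 1 by rw [map_pow, pow_orderOf_eq_one])
    · refine ((hb.dvd_mul.1 (orderOf_split ψ h ▸ hbh)).resolve_left fun h' => hbg ?_).trans ?_
      · rw [← hgh] at h'
        exact h'.trans (orderOf_map_dvd φ g)
      · exact Subgroup.orderOf_dvd_natCard ψ.ker
          (show ψ (h ^ orderOf (ψ h)) = 1 by rw [map_pow, pow_orderOf_eq_one])
  have hpd : p ∣ orderOf g * orderOf h := (dvd_mul_right p q).trans hlcm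
  have hqd : q ∣ orderOf g * orderOf h := (dvd_mul_left q p).trans hlcm
  by_cases hgg : p ∣ orderOf g ∧ q ∣ orderOf g
  · exact adj_of_dvd hp hq hne hgg.1 hgg.2
  by_cases hhh : p ∣ orderOf h ∧ q ∣ orderOf h
  · exact h2 p q hp hq hne (adj_of_dvd hp hq hne hhh.1 hhh.2)
  rcases hp.dvd_mul.1 hpd with hpg | hph
  · have hqg : ¬ q ∣ orderOf g := fun h' => hgg ⟨hpg, h'⟩
    have hqh := (hq.dvd_mul.1 hqd).resolve_left hqg
    exact key p q hp hq hne hpg (fun h' => hhh ⟨h', hqh⟩) hqh hqg
  · have hqh : ¬ q ∣ orderOf h := fun h' => hhh ⟨hph, h'⟩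
    have hqg := (hq.dvd_mul.1 hqd).resolve_right hqh
    exact (key q p hq hp hne.symm hqg hqh hph (fun h' => hgg ⟨h', hqg⟩)).symm

/-- A nontrivial normal subgroup whose primes are pairwise joined gives unboundedly many groups
with the same graph. -/
theorem false_of_clique [Finite G] (hG : Bounded G) (M : Subgroup G) [M.Normal] (hM : M ≠ ⊥)
    (hcl : ∀ p q : ℕ, p.Prime → q.Prime → p ≠ q → p ∣ Nat.card M → q ∣ Nat.card M → Adj G p q) :
    False := by
  have step : ∀ k : ℕ, ∃ (H : Type u) (_ : Group H) (_ : Finite H) (ψ : H →* G ⧸ M),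
      Function.Surjective ψ ∧ SameGraph G H ∧ Nat.card ψ.ker = Nat.card M ^ (k + 1) := by
    intro k
    induction k with
    | zero =>
      exact ⟨G, ‹_›, ‹_›, QuotientGroup.mk' M, QuotientGroup.mk'_surjective M, sameGraph_refl, by
        rw [QuotientGroup.ker_mk', pow_one]⟩
    | succ k ih =>
      obtain ⟨H, _, _, ψ, hψ, hH, hc⟩ := ih
      have hs : SameGraph G ↥(fibreProd (QuotientGroup.mk' M) ψ) :=
        sameGraph_fibre _ hψ (fun p hp h => (hH.1 p hp).2 h)
          (fun p q hp hq hne h => (hH.2 p q hp hq hne).2 h)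
          (fun p q hp hq hne h h' => hcl p q hp hq hne (by rwa [QuotientGroup.ker_mk'] at h)
            (hq.dvd_of_dvd_pow (hc ▸ h')))
      let ψ' : ↥(fibreProd (QuotientGroup.mk' M) ψ) →* G ⧸ M :=
        (QuotientGroup.mk' M).comp (fibreFst _ ψ)
      have hψ' : Function.Surjective ψ' :=
        (QuotientGroup.mk'_surjective M).comp (fibreFst_surjective _ hψ)
      refine ⟨_, inferInstance, inferInstance, ψ', hψ', hs, ?_⟩
      refine Nat.eq_of_mul_eq_mul_left (Nat.card_pos (α := G ⧸ M)) ?_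
      have h4 := Subgroup.card_eq_card_quotient_mul_card_subgroup ψ'.ker
      rw [Nat.card_congr (QuotientGroup.quotientKerEquivOfSurjective _ hψ').toEquiv,
        card_fibreProd _ hψ, hc, Subgroup.card_eq_card_quotient_mul_card_subgroup M] at h4
      rw [← h4, pow_succ]
      ring
  refine false_of_family hG fun n => ?_
  obtain ⟨H, _, _, ψ, -, hH, hc⟩ := step n
  refine ⟨H, inferInstance, inferInstance, hH, lt_of_lt_of_le ?_
    (Nat.le_of_dvd Nat.card_pos (Subgroup.card_subgroup_dvd_card ψ.ker))⟩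
  rw [hc]
  exact lt_trans (Nat.lt_succ_self n)
    (Nat.lt_pow_self ((Subgroup.one_lt_card_iff_ne_bot M).2 hM))

end Cfsg.Agent.Solv.GraphBound
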